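import Cfsg.Agent.H822.Transfer
import Cfsg.Agent.OddHalf.Small.Mathieu
import Cfsg.Agent.SporadicStructure.OctadStabFinal
import Cfsg.Agent.Lib.ElemAbGL

/-!
# The octad stabiliser of `M₂₄` as the holomorph of the elementary abelian group of order 16 (helper822)
-/

set_option autoImplicit false

namespace Cfsg.Agent.H822.Octad

open scoped Pointwise
open Cfsg Cfsg.Agent.Co2Type.Quad Cfsg.Agent.H822.Bridge Cfsg.Agent.H822.Aff
open Cfsg.Agent.SporadicA.OctadFix Cfsg.Agent.SporadicStructure.OctadStabAbs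
open Cfsg.Agent.OddHalf.Small.Mathieu Cfsg.Agent.H822.Transfer

/-- the stabiliser of the octad -/
abbrev Yo (o : Finset GolayPt) : Subgroup (Equiv.Perm GolayPt) :=
  M24 ⊓ MulAction.stabilizer (Equiv.Perm GolayPt) o

/-- the pointwise stabiliser in the stabiliser -/
def Uo (o : Finset GolayPt) : Subgroup (Yo o) := (fixOct o).subgroupOf (Yo o)

/-- the complement -/
def Mo (o : Finset GolayPt) (p : GolayPt) : Subgroup (Yo o) := (L M24 o p).subgroupOf (Yo o)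

theorem mem_Yo {o : Finset GolayPt} {g : Equiv.Perm GolayPt} :
    g ∈ Yo o ↔ g ∈ M24 ∧ ∀ x, g x ∈ o ↔ x ∈ o := by
  rw [Subgroup.mem_inf, mem_stabilizer_finset_iff]

theorem mem_Uo {o : Finset GolayPt} {g : Yo o} :
    g ∈ Uo o ↔ ∀ x ∈ o, (g : Equiv.Perm GolayPt) x = x := by
  unfold Uo
  rw [Subgroup.mem_subgroupOf, mem_fixOct]
  exact ⟨fun h => h.2, fun h => ⟨(mem_Yo.1 g.2).1, h⟩⟩

theorem mem_Mo {o : Finset GolayPt} {p : GolayPt} {g : Yo o} :
    g ∈ Mo o p ↔ (g : Equiv.Perm GolayPt) p = p := by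
  unfold Mo
  rw [Subgroup.mem_subgroupOf, mem_L]
  exact ⟨fun h => h.2.2, fun h => ⟨(mem_Yo.1 g.2).1, (mem_Yo.1 g.2).2, h⟩⟩

theorem fix_le (o : Finset GolayPt) : fixOct o ≤ Yo o := by
  intro g hg
  rw [mem_fixOct] at hg
  refine mem_Yo.2 ⟨hg.1, fun x => ?_⟩
  constructor
  · intro hx
    have h1 := hg.2 _ hx
    rw [g.injective h1] at hx
    exact hx
  · intro hx
    rw [hg.2 x hx]; exact hx

theorem L_le (o : Finset GolayPt) (p : GolayPt) : L M24 o p ≤ Yo o := fun g hg => by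
  rw [mem_L] at hg
  exact mem_Yo.2 ⟨hg.1, hg.2.1⟩

section

variable {o : Finset GolayPt} (ho : o ∈ octads)

include ho

theorem card_Uo : Nat.card (Uo o) = 2 ^ 4 := by
  have h1 : Nat.card (Uo o) = Nat.card (fixOct o) := by
    unfold Uo
    exact Nat.card_congr (Subgroup.subgroupOfEquivOfLe (fix_le o)).toEquiv
  rw [h1, card_fixOct ho]; norm_num

theorem sq_Uo {g : Yo o} (hg : g ∈ Uo o) : g * g = 1 := by
  apply Subtype.ext
  exact fixOct_sq ho (Subgroup.mem_subgroupOf.1 hg)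

theorem comm_Uo : ∀ a ∈ Uo o, ∀ b ∈ Uo o, a * b = b * a := by
  intro a ha b hb
  have h1 := sq_Uo ho (mul_mem ha hb)
  have h2 : a * b = b⁻¹ * a⁻¹ := by rw [← mul_inv_rev]; exact eq_inv_of_mul_eq_one_left h1
  rw [h2, inv_eq_of_mul_eq_one_left (sq_Uo ho ha), inv_eq_of_mul_eq_one_left (sq_Uo ho hb)]

theorem normal_Uo : (Uo o).Normal := by
  refine ⟨fun u hu g => ?_⟩
  rw [mem_Uo] at hu ⊢
  intro x hx
  have h1 : ((g⁻¹ : Yo o) : Equiv.Perm GolayPt) x ∈ o := ((mem_Yo.1 (g⁻¹ : Yo o).2).2 x).2 hx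
  have h2 := hu _ h1
  show (g : Equiv.Perm GolayPt) ((u : Equiv.Perm GolayPt) (((g⁻¹ : Yo o) : Equiv.Perm GolayPt) x)) = x
  rw [h2]
  exact Equiv.apply_symm_apply (g : Equiv.Perm GolayPt) x

theorem inf_UM {p : GolayPt} (hp : p ∉ o) : Uo o ⊓ Mo o p = ⊥ := by
  rw [eq_bot_iff]
  rintro g ⟨h1, h2⟩
  have h3 := inf_eq_bot (Cfsg.Agent.SporadicStructure.OctadStabFinal.hyp ho hp)
  have h4 : (g : Equiv.Perm GolayPt) ∈
      (M24 ⊓ fixingSubgroup (Equiv.Perm GolayPt) (o : Set GolayPt)) ⊓ L M24 o p :=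
    Subgroup.mem_inf.2 ⟨Subgroup.mem_subgroupOf.1 h1, Subgroup.mem_subgroupOf.1 h2⟩
  rw [h3, Subgroup.mem_bot] at h4
  rw [Subgroup.mem_bot]
  exact Subtype.ext h4

theorem sup_UM {p : GolayPt} (hp : p ∉ o) : Uo o ⊔ Mo o p = ⊤ := by
  rw [eq_top_iff]
  intro g _
  obtain ⟨k, hk, hko, hkL⟩ := exists_mul_mem_L (Cfsg.Agent.SporadicStructure.OctadStabFinal.hyp ho hp)
    (g : Equiv.Perm GolayPt) (mem_Yo.1 g.2).1 (mem_Yo.1 g.2).2
  have hk' : k ∈ fixOct o := mem_fixOct.2 ⟨hk, hko⟩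
  let k1 : Yo o := ⟨k, fix_le o hk'⟩
  let l1 : Yo o := ⟨k * g, L_le o p hkL⟩
  have h1 : g = k1⁻¹ * l1 := by
    apply Subtype.ext
    show (g : Equiv.Perm GolayPt) = k⁻¹ * (k * g)
    rw [inv_mul_cancel_left]
  rw [h1]
  refine mul_mem (Subgroup.mem_sup_left (inv_mem ?_)) (Subgroup.mem_sup_right ?_)
  · exact Subgroup.mem_subgroupOf.2 hk'
  · exact Subgroup.mem_subgroupOf.2 hkL

theorem faith_UM {p : GolayPt} (hp : p ∉ o) (m : Yo o) (hm : m ∈ Mo o p)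
    (hc : ∀ u ∈ Uo o, m * u * m⁻¹ = u) : m = 1 := by
  rw [mem_Mo] at hm
  apply Subtype.ext
  apply eq_one_of_fix_compl ho (mem_Yo.1 m.2).1
  intro q hq
  obtain ⟨g, ⟨hg, hgq⟩, -⟩ := existsUnique_fixOct ho hp hq
  have h1 := hc ⟨g, fix_le o hg⟩ (Subgroup.mem_subgroupOf.2 hg)
  rw [mul_inv_eq_iff_eq_mul] at h1
  have h2 : (m : Equiv.Perm GolayPt) (g p) = g ((m : Equiv.Perm GolayPt) p) :=
    congrArg (fun t : Yo o => (t : Equiv.Perm GolayPt) p) h1
  rw [hm, hgq] at h2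
  exact h2

theorem card_Mo {p : GolayPt} (hp : p ∉ o) : Nat.card (Mo o p) = 20160 := by
  have h1 : Nat.card (Mo o p) = Nat.card (L M24 o p) := by
    unfold Mo
    exact Nat.card_congr (Subgroup.subgroupOfEquivOfLe (L_le o p)).toEquiv
  obtain ⟨e⟩ := nonempty_mulEquiv (Cfsg.Agent.SporadicStructure.OctadStabFinal.hyp ho hp)
  rw [h1, Nat.card_congr e.toEquiv]
  have h2 : 2 * Nat.card (alternatingGroup (Fin 8)) = Nat.factorial 8 := by
    rw [Nat.card_eq_fintype_card, two_mul_card_alternatingGroup, Fintype.card_perm, Fintype.card_fin]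
  have h3 : Nat.factorial 8 = 40320 := by decide
  omega

theorem full_UM {p : GolayPt} (hp : p ∉ o) (φ : ↥(Uo o) ≃* ↥(Uo o)) :
    ∃ m ∈ Mo o p, ∀ u : ↥(Uo o), ((φ u : ↥(Uo o)) : Yo o) = m * u * m⁻¹ := by
  have := normal_Uo ho
  let c : Mo o p →* MulAut (Uo o) := (MulAut.conjNormal (H := Uo o)).comp (Mo o p).subtype
  have hc : ∀ (m : Mo o p) (u : Uo o), ((c m u : Uo o) : Yo o) = m * u * (m : Yo o)⁻¹ := fun m u => rfl
  have hinj : Function.Injective c := by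
    rw [injective_iff_map_eq_one]
    intro m hm
    apply Subtype.ext
    refine faith_UM ho hp m m.2 fun u hu => ?_
    have h1 := hc m ⟨u, hu⟩
    rw [hm] at h1
    exact h1.symm
  letI : CommGroup (Uo o) := { (inferInstance : Group (Uo o)) with
    mul_comm := fun a b => Subtype.ext (comm_Uo ho a a.2 b b.2) }
  obtain ⟨e⟩ := Cfsg.Agent.Lib.ElemAbGL.mulAut_equiv_GL (V := Uo o) 2 4
    (fun x => Subtype.ext (by have := sq_Uo ho x.2; rw [← pow_two] at this; exact this)) (card_Uo ho)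
  have hcard : Nat.card (Mo o p) = Nat.card (MulAut (Uo o)) := by
    rw [card_Mo ho hp, Nat.card_congr e.toEquiv, Matrix.card_GL_field]
    simp [Fin.prod_univ_succ, ZMod.card]
  have hfin : Finite (MulAut (Uo o)) := Finite.of_injective e e.injective
  obtain ⟨m, hm⟩ := ((Nat.bijective_iff_injective_and_card c).2 ⟨hinj, hcard⟩).2 φ
  refine ⟨m, m.2, fun u => ?_⟩
  rw [← hc m u, hm]

end

end Cfsg.Agent.H822.Octad
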